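import Groth.Agent.Lib.NormalKerRep.Basic
import Groth.Agent.Lib.Chevalley.Invariant
import Groth.Agent.Lib.Hopf.Galois
import Groth.Agent.Lib.Hopf.Faithful

/-!
# Quotients of affine groups by normal subgroups: invariant functions
-/

set_option autoImplicit false
set_option linter.style.haveILetI false

universe u

open TensorProduct WithConv
open scoped GrothLib.Chevalley
open GrothLib.Chevalley (Kills invariants IsNormalPts)

namespace GrothLib.HopfNQ14

variable {k : Type u} [Field k] {A : Type u} [CommRing A] [HopfAlgebra k A]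

theorem isNormalPts_of {I : Ideal A} (hI : SGA3.IsNormalHopfIdeal k A I) : IsNormalPts k I := by
  intro R _ _ g w hw a ha
  have := hI R g.ofConv w.ofConv hw a ha
  rw [GrothLib.Hopf.conv3_eq] at this
  exact this

section Hom

variable {C : Type u} [CommRing C] [HopfAlgebra k C] {R R' : Type u} [CommRing R] [Algebra k R]
  [CommRing R'] [Algebra k R']

/-- Composition with an algebra map, on points. -/
noncomputable def post (σ : R →ₐ[k] R') : WithConv (A →ₐ[k] R) →* WithConv (A →ₐ[k] R') where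
  toFun g := toConv (σ.comp g.ofConv)
  map_one' := congrArg toConv (GrothLib.Hopf.comp_convOne σ)
  map_mul' f g := GrothLib.Hopf.comp_convMul σ f g

/-- Composition with a bialgebra map, on points. -/
noncomputable def pre (φ : C →ₐc[k] A) : WithConv (A →ₐ[k] R) →* WithConv (C →ₐ[k] R) where
  toFun g := toConv (g.ofConv.comp (φ : C →ₐ[k] A))
  map_one' := congrArg toConv (GrothLib.Hopf.convOne_comp_bialgHom φ)
  map_mul' f g := GrothLib.Hopf.convMul_comp_bialgHom φ f g

theorem map_inv' {B : Type u} [CommRing B] [HopfAlgebra k B]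
    (f : WithConv (A →ₐ[k] R) →* WithConv (B →ₐ[k] R')) (g : WithConv (A →ₐ[k] R)) : f g⁻¹ = (f g)⁻¹ :=
  eq_inv_of_mul_eq_one_left (by rw [← map_mul, inv_mul_cancel, map_one])

end Hom

variable (I : Ideal A)

theorem augIdealSpan_invariants_le : SGA3.augIdealSpan k A (invariants k I) ≤ I := by
  refine Ideal.span_le.2 fun b hb => ?_
  obtain ⟨hb, hb0⟩ := hb
  let w : WithConv (A →ₐ[k] A ⧸ I) := toConv (Ideal.Quotient.mkₐ k I)
  have h := hb (A ⧸ I) 1 w fun a ha => Ideal.Quotient.eq_zero_iff_mem.2 ha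
  rw [_root_.one_mul] at h
  refine Ideal.Quotient.eq_zero_iff_mem.1 (h.trans ?_)
  change algebraMap k (A ⧸ I) (Coalgebra.counit b) = 0
  rw [hb0, map_zero]

theorem isHopfIdeal_comap [I.IsHopfIdeal k] {C : Type u} [CommRing C] [HopfAlgebra k C] (φ : C →ₐc[k] A) :
    (I.comap (φ : C →ₐ[k] A)).IsHopfIdeal k where
  counit_eq_zero x hx := by
    rw [← CoalgHomClass.counit_comp_apply φ]
    exact (Ideal.IsHopfIdeal.toIsCoideal (R := k) (I := I)).counit_eq_zero hx
  map_mkQ_comul_eq_zero x hx := by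
    let J := (I.comap (φ : C →ₐ[k] A)).restrictScalars k
    let j' : (C ⧸ J) →ₗ[k] A ⧸ I.restrictScalars k :=
      J.mapQ (I.restrictScalars k) (φ : C →ₐ[k] A).toLinearMap fun c hc => hc
    have hj' : Function.Injective j' := (injective_iff_map_eq_zero _).2 fun z => by
      obtain ⟨c, rfl⟩ := Submodule.Quotient.mk_surjective _ z
      intro h
      exact (Submodule.Quotient.mk_eq_zero _).2 ((Submodule.Quotient.mk_eq_zero (I.restrictScalars k)).1 h : _)
    refine TensorProduct.map_injective_of_flat_flat j' j' hj' hj' ?_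
    rw [map_zero]
    have h := (Ideal.IsHopfIdeal.toIsCoideal (R := k) (I := I)).map_mkQ_comul_eq_zero (x := φ x) hx
    rw [← CoalgHomClass.map_comp_comul_apply φ x] at h
    refine Eq.trans ?_ h
    induction (CoalgebraStruct.comul (R := k) x) using TensorProduct.induction_on with
    | zero => simp
    | tmul p q => rfl
    | add p q hp hq => simp only [map_add, hp, hq]
  antipode_mem x hx := by
    show φ (HopfAlgebraStruct.antipode k x) ∈ I
    rw [← GrothLib.Hopf.bialgHom_antipode]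
    exact Ideal.IsHopfIdeal.antipode_mem (R := k) hx

theorem isNormal_comap (hN : IsNormalPts k I) {C : Type u} [CommRing C] [HopfAlgebra k C] (φ : C →ₐc[k] A)
    (hφ : Function.Injective φ) :
    SGA3.IsNormalHopfIdeal k C (I.comap (φ : C →ₐ[k] A)) := by
  intro R _ _ g h hh c hc
  rw [GrothLib.Hopf.conv3_eq]
  let J := I.comap (φ : C →ₐ[k] A)
  let j : C ⧸ J →ₐ[k] A ⧸ I := Ideal.quotientMapₐ I (φ : C →ₐ[k] A) le_rfl
  let gC : WithConv (C →ₐ[k] C ⊗[k] (C ⧸ J)) := toConv Algebra.TensorProduct.includeLeft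
  let hCu : WithConv (C →ₐ[k] C ⊗[k] (C ⧸ J)) :=
    toConv (Algebra.TensorProduct.includeRight.comp (Ideal.Quotient.mkₐ k J))
  let gA : WithConv (A →ₐ[k] A ⊗[k] (A ⧸ I)) := toConv Algebra.TensorProduct.includeLeft
  let hA : WithConv (A →ₐ[k] A ⊗[k] (A ⧸ I)) :=
    toConv (Algebra.TensorProduct.includeRight.comp (Ideal.Quotient.mkₐ k I))
  let μ : C ⊗[k] (C ⧸ J) →ₐ[k] A ⊗[k] (A ⧸ I) := Algebra.TensorProduct.map (φ : C →ₐ[k] A) j
  have hμ : Function.Injective μ :=
    TensorProduct.map_injective_of_flat_flat (φ : C →ₐ[k] A).toLinearMap j.toLinearMap hφ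
      Ideal.quotientMap_injective
  have hU : (gC * hCu * gC⁻¹).ofConv c = 0 := by
    apply hμ
    rw [map_zero]
    have e1 : post μ gC = pre φ gA := by
      refine WithConv.ofConv_injective (AlgHom.ext fun x => ?_)
      simp [post, pre, μ, gC, gA]
    have e2 : post μ hCu = pre φ hA := by
      refine WithConv.ofConv_injective (AlgHom.ext fun x => ?_)
      simp [post, pre, μ, hCu, hA, j, J]
    have e : post μ (gC * hCu * gC⁻¹) = pre φ (gA * hA * gA⁻¹) := by
      rw [map_mul, map_mul, map_mul, map_mul, map_inv', map_inv', e1, e2]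
    refine (congr($(congrArg WithConv.ofConv e) c)).trans ?_
    exact hN _ gA hA (fun a ha => by simp [hA, Ideal.Quotient.eq_zero_iff_mem.2 ha]) _ hc
  let σ : C ⊗[k] (C ⧸ J) →ₐ[k] R :=
    Algebra.TensorProduct.lift g (Ideal.Quotient.liftₐ J h hh) fun _ _ => mul_comm _ _
  have e1 : post σ gC = toConv g := WithConv.ofConv_injective (AlgHom.ext fun x => by simp [post, σ, gC])
  have e2 : post σ hCu = toConv h := WithConv.ofConv_injective (AlgHom.ext fun x => by
    simp [post, σ, hCu])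
  have e : post σ (gC * hCu * gC⁻¹) = toConv g * toConv h * (toConv g)⁻¹ := by
    rw [map_mul, map_mul, map_inv', e1, e2]
  refine Eq.trans (congr($(congrArg WithConv.ofConv e) c)).symm ?_
  change σ ((gC * hCu * gC⁻¹).ofConv c) = 0
  rw [hU, map_zero]

theorem le_augIdealSpan_invariants [I.IsHopfIdeal k] (hN : IsNormalPts k I) :
    I ≤ SGA3.augIdealSpan k A (invariants k I) := by
  intro a ha
  obtain ⟨C, hCfg, hC, haC⟩ := GrothLib.Hopf.Sub.exists_fg (k := k) ({a} : Finset A)
  letI := GrothLib.Hopf.Sub.hopfAlgebra hC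
  haveI : Algebra.FiniteType k C := ⟨(Subalgebra.fg_top C).mpr hCfg⟩
  let ι₀ : C →ₐc[k] A := GrothLib.Hopf.Sub.valHom hC
  haveI := isHopfIdeal_comap I ι₀
  let J : Ideal C := I.comap (ι₀ : C →ₐ[k] A)
  have hJ := isNormal_comap I hN ι₀ Subtype.val_injective
  obtain ⟨F, hinv, hgen⟩ := GrothLib.NormalKerRep.exists_invariant_generators J hJ
  have hFB : ∀ f ∈ F, (f : A) ∈ invariants k I := fun f hf R _ _ g w hw => by
    have h := hinv f hf R (pre ι₀ g) (pre ι₀ w) (fun c hc => hw _ hc)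
    rw [← map_mul] at h
    exact h
  let x : WithConv (C →ₐ[k] A ⧸ SGA3.augIdealSpan k A (invariants k I)) :=
    toConv ((Ideal.Quotient.mkₐ k _).comp C.val)
  have hx := hgen _ x fun f hf => by
    change Ideal.Quotient.mk _ (f : A) = Ideal.Quotient.mk _ (algebraMap k A (Coalgebra.counit f))
    refine Ideal.Quotient.eq.2 (Ideal.subset_span ⟨sub_mem (hFB f hf) (Subalgebra.algebraMap_mem _ _), ?_⟩)
    rw [map_sub, Bialgebra.counit_algebraMap, sub_eq_zero]
    rfl
  exact Ideal.Quotient.eq_zero_iff_mem.1 (hx ⟨a, haC (by simp)⟩ ha)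

/-- A sub-Hopf algebra consists of the functions invariant under the kernel it defines. -/
theorem mem_of_invariant {B : Subalgebra k A} (hB : SGA3.IsHopfSubalgebra k A B) {J : Ideal A}
    (hJ : J = SGA3.augIdealSpan k A B) {x : A}
    (hx : (Ideal.Quotient.mkₐ k J).toLinearMap.lTensor A (Coalgebra.comul (R := k) x) = x ⊗ₜ[k] (1 : A ⧸ J)) :
    x ∈ B := by
  letI := GrothLib.Hopf.Sub.hopfAlgebra hB
  let φ : B →ₐc[k] A := GrothLib.Hopf.Sub.valHom hB
  have hk : GrothLib.Hopf.kerIdeal k φ = J := by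
    rw [hJ]
    refine le_antisymm (Ideal.map_le_iff_le_comap.2 fun b hb => Ideal.subset_span ⟨b.2, hb⟩) ?_
    exact Ideal.span_le.2 fun a ha => Ideal.mem_map_of_mem (f := (φ : B →+* A)) (show (⟨a, ha.1⟩ : B) ∈ _ from ha.2)
  haveI : Module.FaithfullyFlat B A := GrothLib.Hopf.faithfullyFlat φ (fun _ => rfl) Subtype.val_injective
  let Φ := GrothLib.Hopf.galoisEquiv φ (fun _ => rfl)
  subst hk
  have h1 : Φ ((1 : A) ⊗ₜ[B] x) = Φ (x ⊗ₜ[B] (1 : A)) := by
    have e1 : Φ ((1 : A) ⊗ₜ[B] x) =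
        (Ideal.Quotient.mkₐ k (GrothLib.Hopf.kerIdeal k φ)).toLinearMap.lTensor A (Coalgebra.comul (R := k) x) := by
      rw [GrothLib.Chevalley.lTensor_comul_eq]
      simp [Φ, GrothLib.Hopf.galoisEquiv]
      exact _root_.one_mul _
    have e2 : Φ (x ⊗ₜ[B] (1 : A)) = x ⊗ₜ[k] (1 : A ⧸ GrothLib.Hopf.kerIdeal k φ) := by
      simp [Φ, GrothLib.Hopf.galoisEquiv]
    rw [e1, e2, hx]
  have h2 := Φ.injective h1
  let P : Submodule B A := LinearMap.range (Algebra.linearMap B A)
  have h3 : (1 : A) ⊗ₜ[B] P.mkQ x = (1 : A) ⊗ₜ[B] (0 : A ⧸ P) := by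
    have := congrArg (P.mkQ.lTensor A) h2
    rw [LinearMap.lTensor_tmul, LinearMap.lTensor_tmul,
      show P.mkQ (1 : A) = 0 from (Submodule.Quotient.mk_eq_zero P).2 ⟨1, map_one (algebraMap B A)⟩,
      TensorProduct.tmul_zero] at this
    rw [this, TensorProduct.tmul_zero]
  obtain ⟨b, rfl⟩ := (Submodule.Quotient.mk_eq_zero P).1
    (Module.FaithfullyFlat.tensorProduct_mk_injective (A := B) (B := A) _ h3)
  exact b.2

end GrothLib.HopfNQ14
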